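import Groth.Agent.SGA3x.K933.HomExtLoc
import Groth.Agent.SGA3x.K10.MTLoc
import Groth.Agent.Sga3B.RepDescent6
import Groth.Agent.Sga3B.Pts
import Groth.Agent.S5283
import Groth.Agent.S0066
import Groth.Agent.Etcore.NormalEtaleScheme

/-!
# Extension of homomorphisms into groups of multiplicative type from the generic fibre

`exists_family`: étale-locally on the normal base the homomorphism extends; `exists_hom`: it extends.
-/

set_option autoImplicit false
universe u

open CategoryTheory MonoidalCategory CartesianMonoidalCategory MonObj GrpObj AlgebraicGeometry Limits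

namespace K933.HomExt

open Groth.Agent Groth.Agent.Sga3B GenDense HomExtLoc

variable {S : Scheme.{u}} [IsIntegral S] [IsLocallyNoetherian S]

/-- Étale-local splittings over normal integral affine schemes. -/
theorem exists_split (hnorm : ∀ x : S, IsIntegrallyClosed (S.presheaf.stalk x)) {T : Over S} [GrpObj T]
    (hT : SGA3x.IsMultTypeFT T) (s : S) :
    ∃ (V : Scheme.{u}) (v : V ⟶ S) (M : Type) (_ : AddCommGroup M), Etale v ∧ s ∈ Set.range v ∧ IsIntegral V ∧
      IsAffine V ∧ IsLocallyNoetherian V ∧ Pi1.IsNormalScheme V ∧ IsIntegrallyClosed Γ(V, ⊤) ∧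
      Nonempty (Grp.mk (Red.bc v T) ≅ Grp.mk (Red.DS V M)) := by
  obtain ⟨B, _, v₀, M, _, hv, ⟨b, hb⟩, -, ⟨e⟩⟩ := K10.MTLoc.exists_etale_split hT s
  obtain ⟨W, hbW, hW, hdom, hcl⟩ := Etcore.NormalEtaleScheme.exists_affine_nhd_isDomain hnorm v₀ b
  let C := Γ(Spec (CommRingCat.of B), W)
  let j : Spec C ⟶ Spec (CommRingCat.of B) := hW.fromSpec
  have hC : IsIntegral (Spec C) := inferInstance
  have hE : Etale (j ≫ v₀) := inferInstance
  have hN : IsLocallyNoetherian (Spec C) := LocallyOfFiniteType.isLocallyNoetherian (j ≫ v₀)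
  refine ⟨Spec C, j ≫ v₀, M, inferInstance, hE, ?_, hC, inferInstance, hN, ?_, ?_, ?_⟩
  · have : b ∈ Set.range j := by
      have h := hW.range_fromSpec
      change b ∈ Set.range hW.fromSpec
      rw [h]
      exact hbW
    obtain ⟨c, rfl⟩ := this
    exact ⟨c, by rw [Scheme.Hom.comp_apply, hb]⟩
  · intro c
    exact (S0066.result (j ≫ v₀) c).mpr ⟨inferInstance, hnorm _⟩
  · exact IsIntegrallyClosed.of_equiv (Scheme.ΓSpecIso C).symm.commRingCatIsoToRingEquiv
  · exact ⟨BcIso.bcCompIso j v₀ T ≪≫ BcIso.bcMapIso j e ≪≫ TorusAlgClosed.dsBcIso _ M⟩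

variable {H T : Over S} [GrpObj H] [GrpObj T]
  (φ : Red.bc (S.fromSpecResidueField (genericPoint S)) H ⟶ Red.bc (S.fromSpecResidueField (genericPoint S)) T)
  [IsMonHom φ]

/-- A family of morphisms `H ⟶ T` parametrised by `A` which is given by `φ` over the generic point. -/
def Ext {A : Over S} (x : H ⊗ A ⟶ T) : Prop :=
  ∀ (Z : Over S) (h : Z ⟶ H) (a : Z ⟶ A) (t : Z ⟶ E S), lift h a ≫ x = BcPts.ev φ h t

/-- Étale-locally the homomorphism extends. -/
theorem exists_family (hnorm : ∀ x : S, IsIntegrallyClosed (S.presheaf.stalk x)) [Smooth H.hom]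
    [GeometricallyIrreducible H.hom] (hT : SGA3x.IsMultTypeFT T) (s : S) :
    ∃ (A : Over S) (x : H ⊗ A ⟶ T), Etale A.hom ∧ s ∈ Set.range A.hom ∧ Ext φ x := by
  obtain ⟨V, v, M, _, hv, hs, hV1, hV2, hV3, hV4, hV5, ⟨e⟩⟩ := exists_split hnorm hT s
  obtain ⟨u, hu⟩ := exists_extend φ hV4 hV5 e
  have haff := K10.MTLoc.isAffineHom hT
  have hsm : Smooth (H ⊗ Over.mk v).hom := by
    have h1 : Smooth (pullback.snd H.hom v) := inferInstance
    have h2 : (H ⊗ Over.mk v).hom = pullback.snd H.hom v ≫ v := pullback.condition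
    rw [h2]
    exact MorphismProperty.comp_mem _ _ _ h1 inferInstance
  have hred : IsReduced (H ⊗ Over.mk v).left := Etcore.SmoothRed.isReduced_of_smooth (H ⊗ Over.mk v).hom
  refine ⟨Over.mk v, BcPts.fam u, hv, hs, ?_⟩
  intro Z h a t
  rw [BcPts.lift_fam]
  exact ev_eq v hu h a t

variable {φ}

omit [IsLocallyNoetherian S] [GrpObj H] [GrpObj T] [IsMonHom φ] in
/-- Compatibility of two families. -/
theorem compat {A B : Over S} {x : H ⊗ A ⟶ T} {y : H ⊗ B ⟶ T} (hx : Ext φ x) (hy : Ext φ y) [Smooth H.hom]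
    [Smooth A.hom] [Smooth B.hom] [IsSeparated T.hom] {R : Over S} (a : R ⟶ A) (b : R ⟶ B) :
    (H ◁ a) ≫ x = (H ◁ b) ≫ y := by
  have key : (H ◁ fst A B) ≫ x = (H ◁ snd A B) ≫ y := by
    have h1 : Smooth (A ⊗ B).hom := by
      change Smooth (pullback.fst A.hom B.hom ≫ A.hom)
      infer_instance
    have h2 : Smooth (H ⊗ (A ⊗ B)).hom := by
      change Smooth (pullback.fst H.hom (A ⊗ B).hom ≫ H.hom)
      infer_instance
    have hred : IsReduced (H ⊗ (A ⊗ B)).left := Etcore.SmoothRed.isReduced_of_smooth (H ⊗ (A ⊗ B)).hom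
    apply ext_points
    intro Z t z
    have e1 : z ≫ (H ◁ fst A B) = lift (z ≫ fst _ _) (z ≫ snd _ _ ≫ fst A B) := by
      apply CartesianMonoidalCategory.hom_ext <;> simp
    have e2 : z ≫ (H ◁ snd A B) = lift (z ≫ fst _ _) (z ≫ snd _ _ ≫ snd A B) := by
      apply CartesianMonoidalCategory.hom_ext <;> simp
    rw [← Category.assoc, e1, hx Z _ _ t, ← Category.assoc, e2, hy Z _ _ t]
  have h1 := congrArg (fun k => (H ◁ lift a b) ≫ k) key
  simp only [← Category.assoc, ← MonoidalCategory.whiskerLeft_comp, lift_fst, lift_snd] at h1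
  exact h1

variable (φ)

/-- **The homomorphism extends.** -/
theorem exists_hom (hnorm : ∀ x : S, IsIntegrallyClosed (S.presheaf.stalk x)) [Smooth H.hom]
    [GeometricallyIrreducible H.hom] (hT : SGA3x.IsMultTypeFT T) :
    ∃ u : H ⟶ T, IsMonHom u ∧ ∀ (Z : Over S) (h : Z ⟶ H) (t : Z ⟶ E S), h ≫ u = BcPts.ev φ h t := by
  choose A x hA hs hx using exists_family φ hnorm hT
  have haff := K10.MTLoc.isAffineHom hT
  have hAsm : ∀ s, Smooth (A s).hom := fun s => inferInstance
  -- glue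
  obtain ⟨y, hy, -⟩ := RepDescent.isEtSheaf_famF H T (T := Over.mk (𝟙 S)) A
    (fun s => Over.homMk (A s).hom) (fun s => hA s) (fun s => ⟨s, hs s⟩) x (fun i j R a b _ => by
      rw [RepDescent.famF_map, RepDescent.famF_map]
      exact compat (hx i) (hx j) a b)
  replace hy : ∀ i, (H ◁ (Over.homMk (A i).hom : A i ⟶ Over.mk (𝟙 S))) ≫ (y : H ⊗ Over.mk (𝟙 S) ⟶ T) = x i := hy
  let y' : H ⊗ Over.mk (𝟙 S) ⟶ T := y
  obtain ⟨u, hu⟩ : ∃ u : H ⟶ T, ∀ s, fst H (A s) ≫ u = x s := by
    refine ⟨lift (𝟙 H) (Over.homMk H.hom) ≫ y', fun s => ?_⟩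
    rw [← hy s, ← Category.assoc]
    congr 1
    apply CartesianMonoidalCategory.hom_ext
    · simp
    · ext1
      have e1 := Over.w (fst H (A s))
      have e2 := Over.w (snd H (A s))
      simp only [Category.assoc, lift_snd, whiskerLeft_snd, Over.comp_left, Over.homMk_left]
      exact e1.trans e2.symm
  -- values over the generic point
  have hev : ∀ (Z : Over S) (h : Z ⟶ H) (t : Z ⟶ E S), h ≫ u = BcPts.ev φ h t := by
    intro Z h t
    obtain ⟨w, -, hw⟩ := RepDescent.isEtSheaf_yoneda T (T := Z) (fun s : S => Z ⊗ A s) (fun s => fst Z (A s))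
      (fun s => by
        have := hA s
        exact inferInstanceAs (Etale (pullback.fst Z.hom (A s).hom)))
      (fun z => by
        obtain ⟨a, ha⟩ := hs (Z.hom z)
        have h1 : z ∈ Set.range (pullback.fst Z.hom (A (Z.hom z)).hom) := by
          rw [Scheme.Pullback.range_fst]
          exact ⟨a, ha⟩
        exact ⟨Z.hom z, h1⟩)
      (fun s => fst Z (A s) ≫ h ≫ u) (fun i j R a b hab => by
        change a ≫ fst Z (A i) ≫ h ≫ u = b ≫ fst Z (A j) ≫ h ≫ u
        rw [← Category.assoc, hab, Category.assoc])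
    have h1 : h ≫ u = w := hw _ fun i => rfl
    have h2 : BcPts.ev φ h t = w := hw _ fun i => by
      change fst Z (A i) ≫ BcPts.ev φ h t = fst Z (A i) ≫ h ≫ u
      rw [BcPts.comp_ev, ← hx i _ (fst Z (A i) ≫ h) (snd Z (A i)) (fst Z (A i) ≫ t), ← hu i, lift_fst_assoc,
        Category.assoc]
    rw [h1, h2]
  refine ⟨u, ?_, hev⟩
  apply Pts.isMonHom_of_universal
  have h2 : Smooth (H ⊗ H).hom := by
    change Smooth (pullback.fst H.hom H.hom ≫ H.hom)
    infer_instance
  have hred : IsReduced (H ⊗ H).left := Etcore.SmoothRed.isReduced_of_smooth (H ⊗ H).hom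
  apply ext_points
  intro Z t z
  rw [← Category.assoc, hev _ _ t, MonObj.comp_mul, BcPts.ev_mul, MonObj.comp_mul, ← Category.assoc z,
    ← Category.assoc z, hev _ _ t, hev _ _ t]

/-- A morphism with the values of `φ` on points over `f` has base change `φ`. -/
theorem map_eq_of_ev {S S' : Scheme.{u}} (f : S' ⟶ S) {X Y : Over S} (φ : Red.bc f X ⟶ Red.bc f Y) {u : X ⟶ Y}
    (hu : ∀ (Z : Over S) (h : Z ⟶ X) (t : Z ⟶ Over.mk f), h ≫ u = BcPts.ev φ h t) :
    (Over.pullback f).map u = φ := by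
  have h1 : ∀ (Z : Over S') (z : Z ⟶ Red.bc f X), z ≫ (Over.pullback f).map u = z ≫ φ := by
    intro Z z
    apply (BcPts.bcEquiv f Z Y).symm.injective
    rw [BcPts.bcEquiv_symm_comp]
    let t : (Over.map f).obj Z ⟶ Over.mk f := Over.homMk Z.hom
    let w : Z ⟶ Over.mk t.left := Over.homMk (𝟙 _)
    have hw : (BcPts.overIso t).inv = (Over.map f).map w := by
      ext1
      rfl
    rw [hu _ _ t, BcPts.ev, hw, ← BcPts.comp_bcEquiv_symm, ← Category.assoc, ← BcPts.comp_bcEquiv, ← hw,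
      Iso.inv_hom_id_assoc, Equiv.apply_symm_apply]
  have := h1 _ (𝟙 _)
  rwa [Category.id_comp, Category.id_comp] at this

end K933.HomExt
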