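import Groth.Agent.Sga3B.BcPts
import Groth.Agent.Flat2E.GenericFibre
import Mathlib.AlgebraicGeometry.Morphisms.UniversallyOpen

/-!
# Morphisms determined by the generic fibre of the base

`S` integral with generic point `η`; `E S` is `Spec κ(η)` seen over `S`.
* `isDominant_fst`: `P_η ⟶ P` is dominant for `P` flat over `S`;
* `ext_fst`, `ext_points`: `S`-morphisms from a reduced flat `S`-scheme to a separated one are determined by their
  values on points over `η`.
-/

set_option autoImplicit false
universe u

open CategoryTheory MonoidalCategory CartesianMonoidalCategory MonObj GrpObj AlgebraicGeometry Limits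

namespace K933.GenDense

open Groth.Agent.Flat2E.GenericFibre

variable {S : Scheme.{u}} [IsIntegral S]

/-- The generic point of the integral scheme `S`, as an `S`-scheme. -/
noncomputable abbrev E (S : Scheme.{u}) [IsIntegral S] : Over S :=
  Over.mk (S.fromSpecResidueField (genericPoint S))

/-- A point of `E S` is unique. -/
theorem ext_E {Z : Over S} (t t' : Z ⟶ E S) : t = t' := by
  ext1
  rw [← cancel_mono (S.fromSpecResidueField (genericPoint S))]
  exact (Over.w t).trans (Over.w t').symm

instance (P : Over S) : Mono (fst P (E S)).left :=
  inferInstanceAs (Mono (pullback.fst P.hom (S.fromSpecResidueField (genericPoint S))))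

instance (P : Over S) : Flat (fst P (E S)).left := by
  have := flat_fromSpecResidueField_genericPoint S
  exact inferInstanceAs (Flat (pullback.fst P.hom (S.fromSpecResidueField (genericPoint S))))

instance (P : Over S) [IsReduced P.left] : IsReduced (P ⊗ E S).left :=
  isReduced_of_flat_mono (fst P (E S)).left

/-- The generic fibre of a flat scheme is dense. -/
theorem isDominant_fst (P : Over S) [Flat P.hom] : IsDominant (fst P (E S)).left := by
  refine ⟨fun p => ?_⟩
  have hr : Set.range (fst P (E S)).left = P.hom ⁻¹' {genericPoint S} := by
    rw [← Scheme.range_fromSpecResidueField (genericPoint S)]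
    exact Scheme.Pullback.range_fst P.hom (S.fromSpecResidueField (genericPoint S))
  obtain ⟨q, hq, hqη⟩ := Flat.generalizingMap P.hom (genericPoint_specializes (P.hom p))
  have h1 : q ∈ Set.range (fst P (E S)).left := by
    rw [hr]
    exact hqη
  exact (hq.mem_closed isClosed_closure (subset_closure h1))

theorem ext_fst {P Y : Over S} [Flat P.hom] [IsReduced P.left] [IsSeparated Y.hom] {a b : P ⟶ Y}
    (h : fst P (E S) ≫ a = fst P (E S) ≫ b) : a = b := by
  have := isDominant_fst P
  ext1
  refine ext_of_isDominant_of_isSeparated Y.hom ((Over.w a).trans (Over.w b).symm) (fst P (E S)).left ?_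
  exact congrArg (·.left) h

/-- Morphisms from a flat reduced scheme are determined by their values on the points over `η`. -/
theorem ext_points {P Y : Over S} [Flat P.hom] [IsReduced P.left] [IsSeparated Y.hom] {a b : P ⟶ Y}
    (h : ∀ (Z : Over S) (_ : Z ⟶ E S) (z : Z ⟶ P), z ≫ a = z ≫ b) : a = b :=
  ext_fst (h _ (snd P (E S)) (fst P (E S)))

end K933.GenDense
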