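import Groth.Agent.Ega4late.H534.Points
import Groth.Agent.Flat2E.GenericFibre

/-!
# Extension of units from the generic fibre

`V` an integral affine normal Noetherian scheme, `f : X ⟶ V` flat with a section and with integral fibres in codimension
one.  A unit on the generic fibre which takes the value `1` along the section extends to `X`
(`exists_app_eq`), uniquely (`app_injective`).
-/

set_option autoImplicit false
universe u

open CategoryTheory CategoryTheory.Limits AlgebraicGeometry Opposite TopologicalSpace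

namespace K933.UnitExt

open Groth.Agent Groth.Agent.Ega4late.H534 FibApp GenDiv CodimOne Points Groth.Agent.Fdesc.LocGen

variable {X V : Scheme.{u}} (f : X ⟶ V) {η : V}

section Tr

variable (χ : Γ(f.fiber η, ⊤))

/-- The section `χ` of the pullback of `O_X` to the fibre. -/
noncomputable def tr : Γ((Scheme.Modules.pullback (f.fiberι η)).obj (Coh.structureModule X), ⊤) :=
  χ • pullTop (f.fiberι η) (one ⊤)

variable {χ} in
theorem isGen_tr (hχ : IsUnit χ) : IsGen (tr f χ) :=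
  ((isGen_one (⊤ : X.Opens)).pullTop (f.fiberι η)).unit_smul hχ

theorem res_tr (W : X.Opens) : res _ (le_top : (f.fiberι η) ⁻¹ᵁ W ≤ ⊤) (tr f χ) =
    ores (le_top : (f.fiberι η) ⁻¹ᵁ W ≤ ⊤) χ • pullSec (f.fiberι η) (one W) := by
  rw [tr, res_smul]
  congr 1
  have h := res_pullSec (f.fiberι η) (le_top : W ≤ ⊤) (one (⊤ : X.Opens))
  rw [res_one] at h
  exact h

theorem rel_iff {U : V.Opens} {a b : Γ(V, U)} {W : X.Opens} (e : W ≤ f ⁻¹ᵁ U) (μ : Γ(X, W)) :
    GenDiv.Rel (tr f χ) a b e (μ • one W) ↔ (f.fiberι η).app W (sc f e a) * ores le_top χ =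
      (f.fiberι η).app W (sc f e b * μ) := by
  rw [GenDiv.Rel, res_tr, pullSec_smul, smul_smul, smul_smul, map_mul]
  constructor
  · intro h
    exact ((isGen_one W).pullSec (f.fiberι η)).ext h
  · intro h
    exact congrArg (· • pullSec (f.fiberι η) (one W)) h

end Tr

section Sec

variable {f} {sec : V ⟶ X} (hs : sec ≫ f = 𝟙 V)

/-- The section on the fibre over `η`. -/
noncomputable def fibSec (η : V) : Spec (V.residueField η) ⟶ f.fiber η :=
  pullback.lift (V.fromSpecResidueField η ≫ sec) (𝟙 _) (by rw [Category.assoc, hs, Category.comp_id, Category.id_comp])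

theorem fibSec_ι (η : V) : fibSec hs η ≫ f.fiberι η = V.fromSpecResidueField η ≫ sec :=
  pullback.lift_fst _ _ _

theorem top_le_fibSec {W : X.Opens} (hW : sec η ∈ W) : ⊤ ≤ (fibSec hs η) ⁻¹ᵁ ((f.fiberι η) ⁻¹ᵁ W) := by
  intro z _
  have h1 : f.fiberι η (fibSec hs η z) = sec (V.fromSpecResidueField η z) := by
    rw [← Scheme.Hom.comp_apply, fibSec_ι, Scheme.Hom.comp_apply]
  change f.fiberι η (fibSec hs η z) ∈ W
  rw [h1, Scheme.fromSpecResidueField_apply]
  exact hW

/-- Evaluation along the section on the fibre. -/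
noncomputable def evSec {W : X.Opens} (hW : sec η ∈ W) :
    Γ(f.fiber η, (f.fiberι η) ⁻¹ᵁ W) →+* Γ(Spec (V.residueField η), ⊤) :=
  ((fibSec hs η).appLE ((f.fiberι η) ⁻¹ᵁ W) ⊤ (top_le_fibSec hs hW)).hom

theorem evSec_ores {W : X.Opens} (hW : sec η ∈ W) (χ : Γ(f.fiber η, ⊤)) :
    evSec hs hW (ores le_top χ) = (fibSec hs η).appTop χ := by
  have h := Scheme.Hom.map_appLE (fibSec hs η) (U := (f.fiberι η) ⁻¹ᵁ W) (V := ⊤) (top_le_fibSec hs hW)
    (homOfLE (le_top : (f.fiberι η) ⁻¹ᵁ W ≤ ⊤)).op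
  have h2 : (fibSec hs η).appTop = (fibSec hs η).appLE ⊤ ⊤ le_top := by
    rw [Scheme.Hom.appTop, Scheme.Hom.app_eq_appLE]
    rfl
  rw [h2]
  exact congr($h χ)

theorem evSec_app {W : X.Opens} (hW : sec η ∈ W) (μ : Γ(X, W)) :
    evSec hs hW ((f.fiberι η).app W μ) =
      (V.fromSpecResidueField η).appLE (sec ⁻¹ᵁ W) ⊤ (top_le (y := η) hW) (sec.app W μ) := by
  have h := appLE_sq (fibSec hs η) (V.fromSpecResidueField η) (f.fiberι η) sec (fibSec_ι hs η) W
    ((f.fiberι η) ⁻¹ᵁ W) (sec ⁻¹ᵁ W) ⊤ le_rfl (top_le_fibSec hs hW) le_rfl (top_le (y := η) hW)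
  rw [← Scheme.Hom.app_eq_appLE, ← Scheme.Hom.app_eq_appLE] at h
  exact congr($h μ)

include hs in
theorem sec_le {U : V.Opens} {W : X.Opens} (e : W ≤ f ⁻¹ᵁ U) : sec ⁻¹ᵁ W ≤ U := by
  intro v hv
  have h1 : sec v ∈ W := hv
  have h2 : f (sec v) ∈ U := e h1
  rwa [← Scheme.Hom.comp_apply, hs] at h2

theorem sec_app_sc {U : V.Opens} {W : X.Opens} (e : W ≤ f ⁻¹ᵁ U) (a : Γ(V, U)) :
    sec.app W (sc f e a) = ores (sec_le hs e) a := by
  have h0 : sec.app W = sec.appLE W (sec ⁻¹ᵁ W) le_rfl := Scheme.Hom.app_eq_appLE _ 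
  have key : ∀ (g : V ⟶ V) (_ : g = 𝟙 V) (h : sec ⁻¹ᵁ W ≤ g ⁻¹ᵁ U),
      g.appLE U (sec ⁻¹ᵁ W) h = V.presheaf.map (homOfLE (sec_le hs e)).op := by
    rintro g rfl h
    rw [Scheme.Hom.appLE, Scheme.Hom.id_app]
    exact Category.id_comp _
  have h1 : f.appLE U W e ≫ sec.appLE W (sec ⁻¹ᵁ W) le_rfl = V.presheaf.map (homOfLE (sec_le hs e)).op := by
    rw [Scheme.Hom.appLE_comp_appLE]
    exact key _ hs _
  rw [h0]
  exact congr($h1 a)

end Sec

theorem appLE_injective [IsIntegral V] {D : V.Opens} (hD : genericPoint V ∈ D) :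
    Function.Injective ((V.fromSpecResidueField (genericPoint V)).appLE D ⊤ (top_le hD)) := by
  intro a b hab
  rw [residue_appLE hD, residue_appLE hD] at hab
  have h1 := (ConcreteCategory.bijective_of_isIso (Scheme.ΓSpecIso (V.residueField (genericPoint V))).inv).1 hab
  have hf : IsField (V.presheaf.stalk (genericPoint V)) := 
    (inferInstance : Field (V.functionField)).toIsField
  have h2 : Function.Injective (V.residue (genericPoint V)) := by
    let := hf.toField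
    exact (V.residue (genericPoint V)).hom.injective
  exact germ_injective_of_isIntegral V (genericPoint V) hD (h2 h1)

theorem gp_top [IsIntegral V] [IsAffine V] : GP (⊤ : V.Opens) (genericPoint V) where
  aff := isAffineOpen_top V
  mem := trivial
  dom := inferInstance
  pt_eq := by
    rw [eq_bot_iff]
    intro a ha
    rw [← residue_appLE_eq_zero_iff] at ha
    exact appLE_injective (D := ⊤) trivial (by rw [ha, map_zero])

theorem app_injective [IsIntegral V] [IsAffine V] [Flat f] (W : X.Opens) :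
    Function.Injective ((f.fiberι (genericPoint V)).app W) :=
  gp_top.injective (U := ⊤) (W := W) le_top

theorem isInvertible_structure (X : Scheme.{u}) : PicF.IsInvertible (Coh.structureModule X) :=
  (isInvertible_iff _).mpr fun _ => ⟨⊤, one ⊤, trivial, isGen_one ⊤⟩

/-- The unit extends near the points of the section. -/
theorem gen_sec [IsIntegral V] [IsAffine V] [IsLocallyNoetherian X] [IsLocallyNoetherian V] [Flat f]
    (hUi : IsIntegrallyClosed Γ(V, ⊤))
    (hfib : ∀ y : V, ringKrullDim (V.presheaf.stalk y) = 1 → IsIntegral (f.fiber y))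
    {sec : V ⟶ X} (hs : sec ≫ f = 𝟙 V)
    {χ : Γ(f.fiber (genericPoint V), ⊤)} (hχ : IsUnit χ)
    (h1 : (fibSec hs (genericPoint V)).appTop χ = 1) (y : V) :
    Gen (tr f χ) (1 : Γ(V, ⊤)) 1 (sec y) := by
  obtain ⟨a, b, ha, hb, W, e, m, hxW, hm, hr⟩ := exists_gen hfib (isInvertible_structure X) (isGen_tr f hχ)
    gp_top hUi (x := sec y) trivial
  obtain ⟨μ, hμ, rfl⟩ := (isGen_one W).exists_unit hm
  have hηW : sec (genericPoint V) ∈ W := by
    have h : genericPoint V ∈ sec ⁻¹ᵁ W :=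
      ((genericPoint_spec V).mem_open_set_iff (sec ⁻¹ᵁ W).2).mpr (by
        rw [Set.univ_inter]
        exact ⟨y, hxW⟩)
    exact h
  have hab : ores (sec_le hs e) a = ores (sec_le hs e) b * sec.app W μ := by
    have h2 := congrArg (evSec hs hηW) ((rel_iff f χ e μ).mp hr)
    rw [map_mul, evSec_ores, h1, mul_one, evSec_app, evSec_app] at h2
    have h3 := appLE_injective (V := V) (D := sec ⁻¹ᵁ W) hηW h2
    rw [map_mul, sec_app_sc hs, sec_app_sc hs] at h3
    exact h3
  -- shrink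
  set D := sec ⁻¹ᵁ W with hD
  have e₁ : W ⊓ f ⁻¹ᵁ D ≤ f ⁻¹ᵁ D := inf_le_right
  have hle : W ⊓ f ⁻¹ᵁ D ≤ W := inf_le_left
  have hx₁ : sec y ∈ W ⊓ f ⁻¹ᵁ D := by
    refine ⟨hxW, ?_⟩
    change f (sec y) ∈ D
    rw [← Scheme.Hom.comp_apply, hs]
    exact hxW
  obtain ⟨c, hc⟩ : IsUnit (sc f e₁ (sec.app W μ)) := (hμ.map (sec.app W).hom).map (sc f e₁)
  have hr₁ := hr.res hle
  rw [res_smul, res_one] at hr₁
  have hr₂ := (rel_iff f χ (hle.trans e) (ores hle μ)).mp hr₁
  have ha' : sc f (hle.trans e) a = sc f (hle.trans e) b * c := by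
    have h2 := congrArg (sc f e₁) hab
    rw [map_mul, sc_ores, sc_ores, ← hc] at h2
    exact h2
  refine ⟨W ⊓ f ⁻¹ᵁ D, hle.trans e, ((c⁻¹ : Γ(X, W ⊓ f ⁻¹ᵁ D)ˣ) * ores hle μ) • one _, hx₁, ?_, ?_⟩
  · exact (isGen_one _).unit_smul ((c⁻¹).isUnit.mul (hμ.map _))
  · rw [rel_iff]
    rw [ha', map_mul, map_mul, mul_assoc] at hr₂
    have h3 := (gp_top.isUnit (hle.trans e) hb).mul_left_cancel hr₂
    rw [map_one, map_one, one_mul, one_mul, map_mul, ← h3, ← mul_assoc, ← map_mul, Units.inv_mul, map_one, one_mul]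

/-- **Extension of units.** -/
theorem exists_app_eq [IsIntegral V] [IsAffine V] [IsLocallyNoetherian X] [IsLocallyNoetherian V] [Flat f]
    (hV : Pi1.IsNormalScheme V) (hUi : IsIntegrallyClosed Γ(V, ⊤))
    (hfib : ∀ y : V, ringKrullDim (V.presheaf.stalk y) = 1 → IsIntegral (f.fiber y))
    {sec : V ⟶ X} (hs : sec ≫ f = 𝟙 V)
    {χ : Γ(f.fiber (genericPoint V), ⊤)} (hχ : IsUnit χ)
    (h1 : (fibSec hs (genericPoint V)).appTop χ = 1) :
    ∃ μ : Γ(X, ⊤), (f.fiberι (genericPoint V)).appTop μ = χ := by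
  have key : ∀ x : X, ∃ (W : X.Opens) (μ : Γ(X, W)), x ∈ W ∧
      ores le_top χ = (f.fiberι (genericPoint V)).app W μ := by
    intro x
    have h2 : Gen (tr f χ) (1 : Γ(V, ⊤)) 1 x := by
      refine Gen.of_eq hV hfib (isInvertible_structure X) (isGen_tr f hχ) gp_top hUi (x := sec (f x)) ?_
        one_ne_zero one_ne_zero (gen_sec f hUi hfib hs hχ h1 (f x))
      rw [← Scheme.Hom.comp_apply, hs]
      rfl
    obtain ⟨W, e, m, hxW, hm, hr⟩ := h2
    obtain ⟨μ, hμ, rfl⟩ := (isGen_one W).exists_unit hm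
    refine ⟨W, μ, hxW, ?_⟩
    rw [rel_iff, map_one, map_one, one_mul, one_mul] at hr
    exact hr
  choose W μ hxW hμ using key
  have hcov : (⊤ : X.Opens) ≤ ⨆ x, W x := fun x _ => Opens.mem_iSup.mpr ⟨x, hxW x⟩
  obtain ⟨t, ht⟩ := ores_glue W (fun x => le_top) hcov μ (by
    intro i j
    apply app_injective f
    rw [app_ores, app_ores, ← hμ, ← hμ, ores_ores, ores_ores])
  refine ⟨t, ?_⟩
  have hcov' : (⊤ : (f.fiber (genericPoint V)).Opens) ≤ ⨆ x, (f.fiberι (genericPoint V)) ⁻¹ᵁ W x := by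
    intro z _
    exact Opens.mem_iSup.mpr ⟨_, hxW (f.fiberι (genericPoint V) z)⟩
  refine ores_ext (fun x => (f.fiberι (genericPoint V)) ⁻¹ᵁ W x) (fun x => le_top) hcov' fun x => ?_
  rw [hμ x, ← ht x]
  exact (app_ores (f.fiberι (genericPoint V)) (le_top : W x ≤ ⊤) t).symm

end K933.UnitExt
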