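import Groth.Agent.SGA3x.K933.GenDense
import Groth.Agent.SGA3x.K933.UnitExt
import Groth.Agent.Sga3B.DSPts
import Groth.Agent.Etcore.SmoothRed

/-!
# Extension of homomorphisms into groups of multiplicative type: the split case

`S` integral, `v : V ⟶ S` flat with `V` integral affine normal Noetherian and `T ×_S V` diagonalisable.  A homomorphism
`H_η ⟶ T_η` from the generic fibre of a smooth `S`-group with geometrically irreducible fibres extends over `V`
(`exists_local`).
-/

set_option autoImplicit false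
universe u

open CategoryTheory MonoidalCategory CartesianMonoidalCategory MonObj GrpObj AlgebraicGeometry Limits

namespace K933.HomExtLoc

open Groth.Agent Groth.Agent.Sga3B GenDense

/-- A flat morphism of integral schemes maps the generic point to the generic point. -/
theorem map_genericPoint {S V : Scheme.{u}} [IsIntegral S] [IsIntegral V] (v : V ⟶ S) [Flat v] :
    v (genericPoint V) = genericPoint S := by
  obtain ⟨q, hq, hqη⟩ := Flat.generalizingMap v (genericPoint_specializes (v (genericPoint V)))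
  have h := (genericPoint_specializes q).antisymm hq
  rw [h.eq]
  exact hqη

/-- The generic point of `V` maps to the generic point of `S`. -/
theorem exists_toE {S V : Scheme.{u}} [IsIntegral S] [IsIntegral V] (v : V ⟶ S) [Flat v] :
    Nonempty ((Over.map v).obj (E V) ⟶ E S) := by
  have h := Scheme.Hom.SpecMap_residueFieldMap_fromSpecResidueField v (genericPoint V)
  have h2 := Scheme.residueFieldCongr_fromSpecResidueField (X := S) (map_genericPoint v)
  refine ⟨Over.homMk (Spec.map (v.residueFieldMap (genericPoint V)) ≫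
    Spec.map (S.residueFieldCongr (map_genericPoint v)).inv) ?_⟩
  change (Spec.map _ ≫ Spec.map _) ≫ S.fromSpecResidueField (genericPoint S) =
    V.fromSpecResidueField (genericPoint V) ≫ v
  rw [← h, Category.assoc]
  congr 1
  rw [← h2, ← Category.assoc, ← Spec.map_comp, Iso.hom_inv_id, Spec.map_id, Category.id_comp]

section bcEv

variable {S S' : Scheme.{u}} {f : S' ⟶ S} {X Y : Over S} [GrpObj X] [GrpObj Y]
  (φ : Red.bc f X ⟶ Red.bc f Y) [IsMonHom φ]

theorem ev_one {T : Over S} (t : T ⟶ Over.mk f) : BcPts.ev φ (1 : T ⟶ X) t = 1 := by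
  have h := BcPts.ev_mul φ (1 : T ⟶ X) 1 t
  rw [_root_.mul_one] at h
  exact left_eq_mul.mp h

end bcEv

/-- Restriction of functions to the generic fibre is injective. -/
theorem appTop_injective {V : Scheme.{u}} [IsIntegral V] [IsAffine V] (X : Over V) [Flat X.hom] :
    Function.Injective (fst X (E V)).left.appTop :=
  UnitExt.app_injective X.hom ⊤

/-- **Extension of units**, group version. -/
theorem exists_unit {V : Scheme.{u}} [IsIntegral V] [IsAffine V] [IsLocallyNoetherian V]
    (hV : Pi1.IsNormalScheme V) (hUi : IsIntegrallyClosed Γ(V, ⊤)) (X : Over V) [GrpObj X] [Smooth X.hom]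
    [GeometricallyIrreducible X.hom] (χ : Γ((X ⊗ E V).left, ⊤)) (hχ : IsUnit χ)
    (h1 : (lift (1 : E V ⟶ X) (𝟙 (E V))).left.appTop χ = 1) :
    ∃ w : Γ(X.left, ⊤), (fst X (E V)).left.appTop w = χ := by
  have : IsLocallyNoetherian X.left := LocallyOfFiniteType.isLocallyNoetherian X.hom
  have hfib : ∀ y : V, ringKrullDim (V.presheaf.stalk y) = 1 → IsIntegral (X.hom.fiber y) := by
    intro y _
    have h2 : Smooth (X.hom.fiberToSpecResidueField y) :=
      inferInstanceAs (Smooth (pullback.snd X.hom (V.fromSpecResidueField y)))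
    have h3 : IsReduced (X.hom.fiber y) := Etcore.SmoothRed.isReduced_of_smooth (X.hom.fiberToSpecResidueField y)
    have h4 : IrreducibleSpace (X.hom.fiber y) := inferInstance
    exact isIntegral_of_irreducibleSpace_of_isReduced _
  have hs : (η[X]).left ≫ X.hom = 𝟙 V := Over.w η[X]
  refine UnitExt.exists_app_eq X.hom hV hUi hfib hs hχ ?_
  have h5 : (lift (1 : E V ⟶ X) (𝟙 (E V))).left = UnitExt.fibSec hs (genericPoint V) := by
    apply pullback.hom_ext
    · have e1 : (lift (1 : E V ⟶ X) (𝟙 (E V))).left ≫ (fst X (E V)).left = (1 : E V ⟶ X).left := by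
        rw [← Over.comp_left, lift_fst]
      have e2 : (1 : E V ⟶ X) = toUnit _ ≫ η[X] := rfl
      refine e1.trans ?_
      rw [e2]
      exact (UnitExt.fibSec_ι hs (genericPoint V)).symm
    · have e1 : (lift (1 : E V ⟶ X) (𝟙 (E V))).left ≫ (snd X (E V)).left = 𝟙 _ := by
        rw [← Over.comp_left, lift_snd]
        rfl
      exact e1.trans (pullback.lift_snd _ _ _).symm
  rw [← h5]
  exact h1

section Local

variable {S V : Scheme.{u}} [IsIntegral S] [IsIntegral V] (v : V ⟶ S) [Flat v] {H T : Over S} [GrpObj H] [GrpObj T]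
  (φ : Red.bc (S.fromSpecResidueField (genericPoint S)) H ⟶ Red.bc (S.fromSpecResidueField (genericPoint S)) T)
  [IsMonHom φ]

/-- The point of `T ×_S V` with values in the generic fibre of `H ×_S V` given by `φ`. -/
noncomputable def genPt : Red.bc v H ⊗ E V ⟶ Red.bc v T :=
  BcPts.bcEquiv v (Red.bc v H ⊗ E V) T
    (BcPts.ev φ ((BcPts.bcEquiv v (Red.bc v H ⊗ E V) H).symm (fst _ _))
      ((Over.map v).map (snd _ _) ≫ (exists_toE v).some))

omit [GrpObj H] [GrpObj T] [IsMonHom φ] in
/-- Values of `genPt`. -/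
theorem lift_genPt {Z : Over V} (h : Z ⟶ Red.bc v H) (s : Z ⟶ E V) (t : (Over.map v).obj Z ⟶ E S) :
    lift h s ≫ genPt v φ = BcPts.bcEquiv v Z T (BcPts.ev φ ((BcPts.bcEquiv v Z H).symm h) t) := by
  rw [genPt, ← BcPts.comp_bcEquiv, BcPts.comp_ev, ← BcPts.comp_bcEquiv_symm, lift_fst]
  congr 2
  exact ext_E _ _

/-- `genPt` is trivial along the unit section. -/
theorem one_genPt : lift (1 : E V ⟶ Red.bc v H) (𝟙 (E V)) ≫ genPt v φ = 1 := by
  rw [lift_genPt v φ _ _ (exists_toE v).some]
  have h1 : (BcPts.bcEquiv v (E V) H).symm (1 : E V ⟶ Red.bc v H) = 1 := by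
    rw [Equiv.symm_apply_eq]
    exact (BcPts.bcEquiv_one v).symm
  rw [h1, ev_one, BcPts.bcEquiv_one]

variable {v} in
/-- The extension of a homomorphism in the split case. -/
theorem exists_extend [IsAffine V] [IsLocallyNoetherian V]
    (hV : Pi1.IsNormalScheme V) (hUi : IsIntegrallyClosed Γ(V, ⊤)) [Smooth H.hom] [GeometricallyIrreducible H.hom]
    {M : Type} [AddCommGroup M] (e : Grp.mk (Red.bc v T) ≅ Grp.mk (Red.DS V M)) :
    ∃ u : Red.bc v H ⟶ Red.bc v T, fst (Red.bc v H) (E V) ≫ u = genPt v φ := by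
  have hsm : Smooth (Red.bc v H).hom := inferInstanceAs (Smooth (pullback.snd H.hom v))
  have hgi : GeometricallyIrreducible (Red.bc v H).hom :=
    inferInstanceAs (GeometricallyIrreducible (pullback.snd H.hom v))
  let e₁ : Red.bc v T ⟶ Red.DS V M := e.hom.hom.hom
  let e₂ : Red.DS V M ⟶ Red.bc v T := e.inv.hom.hom
  have he : e₁ ≫ e₂ = 𝟙 _ := by
    have := e.hom_inv_id
    have h2 := congrArg (fun k => k.hom.hom) this
    exact h2
  have hm : IsMonHom e₁ := e.hom.hom.isMonHom_hom
  let χ : Multiplicative M →* Γ((Red.bc v H ⊗ E V).left, ⊤) := DSPts.dsChar (genPt v φ ≫ e₁)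
  have h1 : ∀ m, (lift (1 : E V ⟶ Red.bc v H) (𝟙 (E V))).left.appTop (χ m) = 1 := by
    intro m
    have h2 : DSPts.dsChar (lift (1 : E V ⟶ Red.bc v H) (𝟙 (E V)) ≫ genPt v φ ≫ e₁) = 1 := by
      have h4 := MonObj.one_comp (X := E V) e₁
      rw [← Category.assoc, one_genPt, h4]
      exact map_one (DSPts.dsEquiv (E V) M).symm
    rw [DSPts.dsChar_comp] at h2
    exact congr($h2 m)
  have h2 : ∀ m, ∃ w : Γ((Red.bc v H).left, ⊤), (fst (Red.bc v H) (E V)).left.appTop w = χ m := fun m =>
    exists_unit hV hUi (Red.bc v H) (χ m) ((Group.isUnit m).map χ) (h1 m)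
  choose w hw using h2
  have hinj := appTop_injective (Red.bc v H)
  let ψ : Multiplicative M →* Γ((Red.bc v H).left, ⊤) :=
    { toFun := w
      map_one' := hinj (by rw [hw, map_one, map_one])
      map_mul' := fun a b => hinj (by rw [hw, map_mul, map_mul, hw, hw]) }
  refine ⟨DSPts.dsEquiv (Red.bc v H) M ψ ≫ e₂, ?_⟩
  rw [← Category.assoc, DSPts.dsEquiv_naturality]
  have h3 : (((fst (Red.bc v H) (E V)).left.appTop.hom : _ →* _).comp ψ) = χ := by
    ext m
    exact hw m
  rw [h3, DSPts.dsEquiv_dsChar, Category.assoc, he, Category.comp_id]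

omit [GrpObj H] [GrpObj T] [IsMonHom φ] in
variable {φ} in
/-- The values of the extension over the generic point. -/
theorem ev_eq {u : Red.bc v H ⟶ Red.bc v T} (hu : fst (Red.bc v H) (E V) ≫ u = genPt v φ) [Flat H.hom]
    [IsReduced (H ⊗ Over.mk v).left] [IsSeparated T.hom]
    {Z : Over S} (x : Z ⟶ H) (a : Z ⟶ Over.mk v) (t : Z ⟶ E S) : BcPts.ev u x a = BcPts.ev φ x t := by
  have key : BcPts.ev u (fst (H ⊗ Over.mk v) (E S) ≫ fst _ _) (fst (H ⊗ Over.mk v) (E S) ≫ snd _ _) =
      BcPts.ev φ (fst (H ⊗ Over.mk v) (E S) ≫ fst _ _) (snd (H ⊗ Over.mk v) (E S)) := by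
    set x₁ : (H ⊗ Over.mk v) ⊗ E S ⟶ H := fst (H ⊗ Over.mk v) (E S) ≫ fst _ _
    set a₁ : (H ⊗ Over.mk v) ⊗ E S ⟶ Over.mk v := fst (H ⊗ Over.mk v) (E S) ≫ snd _ _ with ha₁
    set t₁ : (H ⊗ Over.mk v) ⊗ E S ⟶ E S := snd (H ⊗ Over.mk v) (E S)
    let P : Over V := Over.mk a₁.left
    have hfl : Flat P.hom := by
      have h1 : Flat (fst (H ⊗ Over.mk v) (E S)).left := inferInstance
      have h2 : Flat (snd H (Over.mk v)).left := inferInstanceAs (Flat (pullback.snd H.hom v))
      have h3 : a₁.left = (fst (H ⊗ Over.mk v) (E S)).left ≫ (snd H (Over.mk v)).left := rfl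
      change Flat a₁.left
      rw [h3]
      exact MorphismProperty.comp_mem _ _ _ h1 h2
    have hred : IsReduced P.left := inferInstanceAs (IsReduced ((H ⊗ Over.mk v) ⊗ E S).left)
    have hsep : IsSeparated (Red.bc v T).hom := inferInstanceAs (IsSeparated (pullback.snd T.hom v))
    have h : BcPts.bcEquiv v P T ((BcPts.overIso a₁).hom ≫ BcPts.ev u x₁ a₁) =
        BcPts.bcEquiv v P T ((BcPts.overIso a₁).hom ≫ BcPts.ev φ x₁ t₁) := by
      apply ext_points
      intro Z s z
      have e1 : BcPts.bcEquiv v P T ((BcPts.overIso a₁).hom ≫ BcPts.ev u x₁ a₁) =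
          BcPts.bcEquiv v P H ((BcPts.overIso a₁).hom ≫ x₁) ≫ u := by
        rw [BcPts.ev, Iso.hom_inv_id_assoc]
        exact Equiv.apply_symm_apply _ _
      rw [e1, ← Category.assoc, ← BcPts.comp_bcEquiv, ← BcPts.comp_bcEquiv]
      set h := BcPts.bcEquiv v Z H ((Over.map v).map z ≫ (BcPts.overIso a₁).hom ≫ x₁) with hh
      have e2 : h ≫ u = lift h s ≫ genPt v φ := by
        rw [← hu, lift_fst_assoc]
      rw [e2, lift_genPt v φ h s ((Over.map v).map z ≫ (BcPts.overIso a₁).hom ≫ t₁), hh, Equiv.symm_apply_apply,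
        ← BcPts.comp_ev, ← BcPts.comp_ev]
    have h2 := (BcPts.bcEquiv v P T).injective h
    rwa [cancel_epi] at h2
  have h1 := congrArg (lift (lift x a) t ≫ ·) key
  simp only [BcPts.comp_ev, lift_fst_assoc, lift_fst, lift_snd] at h1
  exact h1

end Local

end K933.HomExtLoc
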